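import Groth.Agent.H61.Morse
import Mathlib.LinearAlgebra.Matrix.ToLin
import Mathlib.LinearAlgebra.Dual.Lemmas
import Mathlib.FieldTheory.IsAlgClosed.Basic

/-!
# Normal form of an ordinary quadratic series, all characteristics

`f = Q + (order ≥ 3)` with `Q` ordinary over an algebraically closed field: `k[[x]]/(f) ≅ k[[x]]/(Q)`.

* `exists_mul_eq`: products of two variables lie in `(Q) + 𝔪 (∂Q)`.
* `exists_step`, `nonempty_equiv`: successive approximation of the coordinate change and the unit.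
-/

set_option autoImplicit false

open MvPowerSeries Matrix Groth.Agent.H61.PSFilt Groth.Agent.H61.Morse VanCyc

namespace Groth.Agent.H61.OrdQuad

universe u

variable {k : Type u} [Field k] {N : ℕ}

local notation "P" => MvPowerSeries (Fin N) k

/-- The quadratic form as a bilinear expression. -/
theorem quadEval_add {R : Type u} [CommRing R] (q : Fin N → Fin N → R) (y z : Fin N → R) :
    quadEval q (y + z) = quadEval q y + quadEval q z + y ⬝ᵥ (polarMatrix q *ᵥ z) := by
  classical
  let U : Matrix (Fin N) (Fin N) R := fun i j => if i ≤ j then q i j else 0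
  have hU : ∀ v, quadEval q v = v ⬝ᵥ (U *ᵥ v) := fun v => by
    simp only [quadEval, dotProduct, Matrix.mulVec, Finset.mul_sum, U]
    refine Finset.sum_congr rfl fun i _ => Finset.sum_congr rfl fun j _ => ?_
    split_ifs <;> ring
  have hP : polarMatrix q = U + Uᵀ := by
    ext i j
    simp only [polarMatrix, Matrix.add_apply, Matrix.transpose_apply, U]
    rcases lt_trichotomy i j with h | rfl | h
    · simp [h.ne, h, h.le, h.not_ge]
    · simp [two_mul]
    · simp [h.ne', h.not_gt, h.le, h.not_ge]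
  rw [hU, hU, hU, hP, Matrix.add_mulVec, dotProduct_add, Matrix.mulVec_add, dotProduct_add,
    add_dotProduct, add_dotProduct, Matrix.mulVec_transpose, dotProduct_comm y (z ᵥ* U), ← Matrix.dotProduct_mulVec]
  ring

theorem quadEval_smul {R : Type u} [CommRing R] (q : Fin N → Fin N → R) (c : R) (y : Fin N → R) :
    quadEval q (c • y) = c ^ 2 * quadEval q y := by
  simp only [quadEval, Finset.mul_sum, Pi.smul_apply, smul_eq_mul]
  refine Finset.sum_congr rfl fun i _ => Finset.sum_congr rfl fun j _ => ?_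
  split_ifs <;> ring

theorem quadEval_map {R S : Type u} [CommRing R] [CommRing S] (f : R →+* S) (q : Fin N → Fin N → R)
    (y : Fin N → R) : f (quadEval q y) = quadEval (fun i j => f (q i j)) (fun i => f (y i)) := by
  simp only [quadEval, map_sum]
  refine Finset.sum_congr rfl fun i _ => Finset.sum_congr rfl fun j _ => ?_
  split_ifs <;> simp

theorem polarMatrix_map {R S : Type u} [CommRing R] [CommRing S] (f : R →+* S) (q : Fin N → Fin N → R) :
    polarMatrix (fun i j => f (q i j)) = (polarMatrix q).map f := by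
  ext i j
  simp only [polarMatrix, Matrix.map_apply]
  split_ifs <;> simp [map_ofNat]

theorem polarMatrix_symm {R : Type u} [CommRing R] (q : Fin N → Fin N → R) (i j : Fin N) :
    polarMatrix q i j = polarMatrix q j i := by
  simp only [polarMatrix]
  rcases lt_trichotomy i j with h | rfl | h
  · simp [h.ne, h.ne', h, h.not_gt]
  · rfl
  · simp [h.ne, h.ne', h, h.not_gt]

/-- Linear forms killing the radical come from the partial derivatives. -/
theorem exists_of_radical (q : Fin N → Fin N → k) (ℓ : Fin N → k)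
    (h : ∀ v, polarMatrix q *ᵥ v = 0 → ℓ ⬝ᵥ v = 0) : ∃ m, m ᵥ* polarMatrix q = ℓ := by
  classical
  let f := Matrix.mulVecLin (polarMatrix q)
  let φ : Module.Dual k (Fin N → k) := dotProductBilin k k ℓ
  have hφ : φ ∈ (LinearMap.ker f).dualAnnihilator :=
    (Submodule.mem_dualAnnihilator _).2 fun v hv => h v (LinearMap.mem_ker.1 hv)
  rw [← LinearMap.range_dualMap_eq_dualAnnihilator_ker] at hφ
  obtain ⟨ψ, hψ⟩ := hφ
  refine ⟨fun i => ψ (Pi.single i 1), funext fun j => ?_⟩
  have hψ' : ∀ w, ψ w = (fun i => ψ (Pi.single i 1)) ⬝ᵥ w := fun w => by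
    conv_lhs => rw [pi_eq_sum_univ' w]
    simp [dotProduct, mul_comm]
  have := LinearMap.congr_fun hψ (Pi.single j 1)
  rw [LinearMap.dualMap_apply] at this
  have e : φ (Pi.single j 1) = ℓ j := by
    show ℓ ⬝ᵥ Pi.single j 1 = ℓ j
    rw [dotProduct_single, mul_one]
  rw [hψ', e] at this
  rw [← this]
  show _ = (fun i => ψ (Pi.single i 1)) ⬝ᵥ (polarMatrix q *ᵥ Pi.single j 1)
  rw [Matrix.dotProduct_mulVec, dotProduct_single, mul_one]

/-- The radical is at most a line. -/
theorem exists_span_radical [IsAlgClosed k] {q : Fin N → Fin N → k} (hq : QuadOrd q) :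
    (∀ v, polarMatrix q *ᵥ v = 0 → v = 0) ∨
      ∃ v₀, polarMatrix q *ᵥ v₀ = 0 ∧ quadEval q v₀ ≠ 0 ∧ ∀ v, polarMatrix q *ᵥ v = 0 → ∃ c : k, v = c • v₀ := by
  by_cases h : ∀ v, polarMatrix q *ᵥ v = 0 → v = 0
  · exact Or.inl h
  push_neg at h
  obtain ⟨v₀, hv₀, hne⟩ := h
  have hQ : quadEval q v₀ ≠ 0 := fun e => hne (hq v₀ e hv₀)
  have h2 : (2 : k) = 0 := by
    have h1 := quadEval_add q v₀ v₀
    rw [hv₀, dotProduct_zero, add_zero, ← two_smul k v₀, quadEval_smul] at h1
    have : (2 : k) * quadEval q v₀ = 0 := by linear_combination h1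
    exact (mul_eq_zero.1 this).resolve_right hQ
  refine Or.inr ⟨v₀, hv₀, hQ, fun v hv => ?_⟩
  obtain ⟨c, hc⟩ := IsAlgClosed.exists_pow_nat_eq (quadEval q v / quadEval q v₀) (by norm_num : 0 < 2)
  refine ⟨-c, ?_⟩
  rw [← sub_eq_zero, neg_smul, sub_neg_eq_add]
  refine hq _ ?_ ?_
  · rw [quadEval_add, Matrix.mulVec_smul, hv₀, smul_zero, dotProduct_zero, add_zero, quadEval_smul, hc,
      div_mul_cancel₀ _ hQ]
    linear_combination (quadEval q v) * h2
  · rw [Matrix.mulVec_add, hv, Matrix.mulVec_smul, hv₀, smul_zero, add_zero]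

/-- The quadratic form. -/
noncomputable def Q (q : Fin N → Fin N → k) : P := quadEval (fun i j => C (q i j)) X

/-- The partial derivatives. -/
noncomputable def dQ (q : Fin N → Fin N → k) (l : Fin N) : P :=
  ((polarMatrix q).map (C : k →+* P) *ᵥ (X : Fin N → P)) l

theorem coe_quadPoly (q : Fin N → Fin N → k) : ((quadPoly q : MvPolynomial (Fin N) k) : P) = Q q := by
  rw [← MvPolynomial.coeToMvPowerSeries.ringHom_apply, quadPoly, Q, quadEval, map_sum]
  simp only [map_sum]
  refine Finset.sum_congr rfl fun i _ => Finset.sum_congr rfl fun j _ => ?_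
  split_ifs <;> simp

theorem X_mem (i : Fin N) : (X i : P) ∈ XI (Fin N) k := Ideal.subset_span ⟨i, rfl⟩

theorem Q_mem (q : Fin N → Fin N → k) : Q q ∈ XI (Fin N) k ^ 2 := by
  rw [Q, quadEval]
  refine sum_mem fun i _ => sum_mem fun j _ => ?_
  split_ifs
  · rw [mul_assoc, pow_two]
    exact Ideal.mul_mem_left _ _ (Ideal.mul_mem_mul (X_mem i) (X_mem j))
  · exact zero_mem _

theorem dQ_mem (q : Fin N → Fin N → k) (l : Fin N) : dQ q l ∈ XI (Fin N) k := by
  show ∑ j, _ * (X j : P) ∈ _
  exact sum_mem fun j _ => Ideal.mul_mem_left _ _ (X_mem j)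

/-- Products of two variables lie in `(Q) + 𝔪 (∂Q)`. -/
theorem exists_mul_eq [IsAlgClosed k] {q : Fin N → Fin N → k} (hq : QuadOrd q) (i j : Fin N) :
    ∃ (c : k) (L : Fin N → P), (∀ l, L l ∈ XI (Fin N) k) ∧
      (X i : P) * X j = C c * Q q + ∑ l, L l * dQ q l := by
  classical
  let lin : (Fin N → k) → P := fun ℓ => ∑ a, C (ℓ a) * X a
  have hlin : ∀ ℓ, lin ℓ ∈ XI (Fin N) k := fun ℓ => sum_mem fun a _ => Ideal.mul_mem_left _ _ (X_mem a)
  have hX : ∀ a, (X a : P) = lin (Pi.single a 1) := fun a => by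
    simp only [lin]
    rw [Finset.sum_eq_single a (fun b _ hb => by simp [Pi.single_eq_of_ne hb]) (by simp)]
    simp
  have hmem : ∀ ℓ m, m ᵥ* polarMatrix q = ℓ → lin ℓ = ∑ l, C (m l) * dQ q l := by
    rintro ℓ m rfl
    simp only [lin, dQ, Matrix.vecMul, Matrix.mulVec, dotProduct, Matrix.map_apply, map_sum, map_mul,
      Finset.sum_mul, Finset.mul_sum]
    rw [Finset.sum_comm]
    exact Finset.sum_congr rfl fun _ _ => Finset.sum_congr rfl fun _ _ => by ring
  rcases exists_span_radical hq with h | ⟨v₀, hv₀, hQ, hspan⟩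
  · obtain ⟨m, hm⟩ := exists_of_radical q (Pi.single i 1) fun v hv => by rw [h v hv, dotProduct_zero]
    refine ⟨0, fun l => C (m l) * X j, fun l => Ideal.mul_mem_left _ _ (X_mem j), ?_⟩
    rw [map_zero, zero_mul, zero_add, hX i, hmem _ m hm, Finset.sum_mul]
    exact Finset.sum_congr rfl fun l _ => by ring
  obtain ⟨a, ha⟩ : ∃ a, v₀ a ≠ 0 := Function.ne_iff.1 fun e => hQ (by subst e; simp [quadEval])
  set φ : P := C (v₀ a)⁻¹ * X a with hφ
  have hdec : ∀ b, ∃ m : Fin N → k, (X b : P) = C (v₀ b) * φ + ∑ l, C (m l) * dQ q l := by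
    intro b
    obtain ⟨m, hm⟩ := exists_of_radical q (Pi.single b 1 - (v₀ b * (v₀ a)⁻¹) • Pi.single a 1) fun v hv => by
      obtain ⟨c, rfl⟩ := hspan v hv
      rw [sub_dotProduct, smul_dotProduct, single_dotProduct, single_dotProduct]
      simp only [Pi.smul_apply, smul_eq_mul, one_mul]
      field_simp
      ring
    refine ⟨m, ?_⟩
    rw [← hmem _ m hm, hφ, hX b, hX a]
    simp only [lin, Finset.mul_sum, ← Finset.sum_add_distrib, Pi.sub_apply, Pi.smul_apply, smul_eq_mul, map_sub, map_mul]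
    exact Finset.sum_congr rfl fun _ _ => by ring
  choose m hm using hdec
  have hprod : ∀ b d, ∃ L : Fin N → P, (∀ l, L l ∈ XI (Fin N) k) ∧
      (X b : P) * X d = C (v₀ b * v₀ d) * φ ^ 2 + ∑ l, L l * dQ q l := by
    intro b d
    refine ⟨fun l => C (m b l) * X d + C (v₀ b) * φ * C (m d l), fun l => add_mem (Ideal.mul_mem_left _ _ (X_mem d))
      (Ideal.mul_mem_right _ _ (Ideal.mul_mem_left _ _ (Ideal.mul_mem_left _ _ (X_mem a)))), ?_⟩
    have e1 : ∑ l, (C (m b l) * X d + C (v₀ b) * φ * C (m d l)) * dQ q l =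
        (∑ l, C (m b l) * dQ q l) * X d + C (v₀ b) * φ * ∑ l, C (m d l) * dQ q l := by
      rw [Finset.sum_mul, Finset.mul_sum, ← Finset.sum_add_distrib]
      exact Finset.sum_congr rfl fun _ _ => by ring
    rw [e1, map_mul]
    linear_combination (X d : P) * hm b + C (v₀ b) * φ * hm d
  choose L hL hLe using hprod
  let M : Fin N → P := fun l => ∑ b, ∑ d, if b ≤ d then C (q b d) * L b d l else 0
  have hQφ : Q q = C (quadEval q v₀) * φ ^ 2 + ∑ l, M l * dQ q l := by
    have e2 : ∑ l, M l * dQ q l = ∑ b, ∑ d, if b ≤ d then C (q b d) * ∑ l, L b d l * dQ q l else 0 := by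
      simp only [M, Finset.sum_mul]
      rw [Finset.sum_comm]
      refine Finset.sum_congr rfl fun b _ => ?_
      rw [Finset.sum_comm]
      refine Finset.sum_congr rfl fun d _ => ?_
      by_cases hbd : b ≤ d
      · simp only [if_pos hbd, Finset.mul_sum]
        exact Finset.sum_congr rfl fun _ _ => by ring
      · simp [if_neg hbd]
    rw [e2, Q, quadEval, quadEval, map_sum, Finset.sum_mul, ← Finset.sum_add_distrib]
    refine Finset.sum_congr rfl fun b _ => ?_
    rw [map_sum, Finset.sum_mul, ← Finset.sum_add_distrib]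
    refine Finset.sum_congr rfl fun d _ => ?_
    split_ifs
    · rw [mul_assoc, hLe, mul_assoc (q b d)]
      simp only [map_mul]
      ring
    · simp
  set r : k := v₀ i * v₀ j / quadEval q v₀ with hr
  refine ⟨r, fun l => L i j l - C r * M l, fun l => sub_mem (hL i j l) (Ideal.mul_mem_left _ _ ?_), ?_⟩
  · exact sum_mem fun b _ => sum_mem fun d _ => by
      split_ifs
      · exact Ideal.mul_mem_left _ _ (hL b d l)
      · exact zero_mem _
  · have hr' : C r * C (quadEval q v₀) = (C (v₀ i * v₀ j) : P) := by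
      rw [← map_mul, hr, div_mul_cancel₀ _ hQ]
    simp only [sub_mul, Finset.sum_sub_distrib, mul_assoc, ← Finset.mul_sum]
    rw [hLe i j]
    linear_combination -(C r) * hQφ - φ ^ 2 * hr'

/-- Division by `(Q, ∂Q)` with control of orders. -/
theorem exists_division [IsAlgClosed k] {q : Fin N → Fin N → k} (hq : QuadOrd q) {m : ℕ} (g : P)
    (hg : g ∈ XI (Fin N) k ^ (m + 3)) :
    ∃ (v : P) (h : Fin N → P), v ∈ XI (Fin N) k ^ (m + 1) ∧ (∀ l, h l ∈ XI (Fin N) k ^ (m + 2)) ∧
      g = v * Q q + ∑ l, h l * dQ q l := by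
  choose c L hL hLe using exists_mul_eq hq
  obtain ⟨T, hT, hTk⟩ := exists_matrix (k := m + 1) g hg
  refine ⟨∑ i, ∑ j, T i j * C (c i j), fun l => ∑ i, ∑ j, T i j * L i j l,
    sum_mem fun i _ => sum_mem fun j _ => Ideal.mul_mem_right _ _ (hTk i j),
    fun l => sum_mem fun i _ => sum_mem fun j _ => by
      rw [show m + 2 = (m + 1) + 1 from rfl, pow_succ _ (m + 1)]
      exact Ideal.mul_mem_mul (hTk i j) (hL i j l), ?_⟩
  have e : ∑ l, (∑ i, ∑ j, T i j * L i j l) * dQ q l = ∑ i, ∑ j, T i j * ∑ l, L i j l * dQ q l := by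
    simp only [Finset.sum_mul, Finset.mul_sum]
    rw [Finset.sum_comm]
    refine Finset.sum_congr rfl fun i _ => ?_
    rw [Finset.sum_comm]
    exact Finset.sum_congr rfl fun _ _ => Finset.sum_congr rfl fun _ _ => by ring
  rw [e, hT, Finset.sum_mul, ← Finset.sum_add_distrib]
  simp only [dotProduct, Matrix.mulVec, Finset.mul_sum]
  refine Finset.sum_congr rfl fun i _ => ?_
  rw [Finset.sum_mul, ← Finset.sum_add_distrib]
  refine Finset.sum_congr rfl fun j _ => ?_
  calc (X i : P) * (T i j * X j) = T i j * (X i * X j) := by ring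
    _ = _ := by rw [hLe i j]; simp only [mul_add, Finset.mul_sum, mul_assoc]

theorem subst_Q (q : Fin N → Fin N → k) {h : Fin N → P} (hh : ∀ i, h i ∈ XI (Fin N) k) :
    subst (fun i => X i - h i) (Q q) =
      Q q + quadEval (fun i j => C (q i j)) h - ∑ l, h l * dQ q l := by
  have hs : HasSubst fun i => X i - h i := hasSubst fun i => sub_mem (X_mem i) (hh i)
  rw [← coe_substAlgHom hs, Q]
  let σ : P →+* P := ((substAlgHom hs : P →ₐ[k] P) : P →+* P)
  refine (quadEval_map σ _ _).trans ?_
  have e : (fun i => σ ((X : Fin N → P) i)) = (X : Fin N → P) + (-1 : P) • h :=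
    funext fun i => (substAlgHom_X hs i).trans (by simp [sub_eq_add_neg])
  have e' : (fun i j => σ (C (q i j))) = fun i j => (C (q i j) : P) :=
    funext₂ fun i j => (substAlgHom hs).commutes (q i j)
  rw [e, e', quadEval_add, quadEval_smul, polarMatrix_map (C : k →+* P), Matrix.mulVec_smul, dotProduct_smul]
  have hd : (X : Fin N → P) ⬝ᵥ ((polarMatrix q).map C *ᵥ h) = ∑ l, h l * dQ q l := by
    simp only [dotProduct, Matrix.mulVec, dQ, Finset.mul_sum, Matrix.map_apply]
    rw [Finset.sum_comm]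
    refine Finset.sum_congr rfl fun i _ => Finset.sum_congr rfl fun j _ => ?_
    rw [polarMatrix_symm q i j]
    ring
  rw [hd, smul_eq_mul]
  ring

/-- One step of the approximation. -/
theorem exists_step [IsAlgClosed k] {q : Fin N → Fin N → k} (hq : QuadOrd q) (f : P) {m : ℕ}
    {a : Fin N → P} {u : P} (ha : ∀ i, a i - X i ∈ XI (Fin N) k ^ 2) (hu : u - 1 ∈ XI (Fin N) k)
    (hg : subst a f - u * Q q ∈ XI (Fin N) k ^ (m + 3)) :
    ∃ (a' : Fin N → P) (u' : P), (∀ i, a' i - X i ∈ XI (Fin N) k ^ 2) ∧ u' - 1 ∈ XI (Fin N) k ∧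
      subst a' f - u' * Q q ∈ XI (Fin N) k ^ (m + 4) ∧
      (∀ i, a' i - a i ∈ XI (Fin N) k ^ (m + 2)) ∧ u' - u ∈ XI (Fin N) k ^ (m + 1) := by
  set I := XI (Fin N) k with hI
  set g := subst a f - u * Q q with hgdef
  obtain ⟨v, h, hv, hh, hge⟩ := exists_division hq g hg
  have hh1 : ∀ i, h i ∈ I := fun i => Ideal.pow_le_self (by omega) (hh i)
  have hs : HasSubst fun i => X i - h i := hasSubst fun i => sub_mem (X_mem i) (hh1 i)
  let τ : Fin N → P := fun i => X i - h i
  have hτ : ∀ i, τ i ∈ I := fun i => sub_mem (X_mem i) (hh1 i)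
  have hadd : ∀ {k} (b : P), b ∈ I → I ^ k * I ≤ I ^ (k + 1) := fun {k} b _ => (pow_succ I k).ge
  have hcong : ∀ y : P, subst τ y - y ∈ I ^ (m + 2) := fun y => by
    have e := subst_congr_pow hτ X_mem (k := m + 2) (fun i => by simpa [τ] using neg_mem (hh i)) y
    rwa [congrFun subst_self y] at e
  have ha0 : ∀ i, a i ∈ I := fun i => by
    simpa using add_mem (Ideal.pow_le_self two_ne_zero (ha i)) (X_mem i)
  refine ⟨fun i => subst τ (a i), u + v, fun i => ?_, ?_, ?_, fun i => hcong (a i), by simpa using hv⟩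
  · have := add_mem (Ideal.pow_le_pow_right (by omega : 2 ≤ m + 2) (hcong (a i))) (ha i)
    simpa using this
  · rw [add_sub_right_comm]
    exact add_mem hu (Ideal.pow_le_self (by omega) hv)
  have hsa : HasSubst a := hasSubst ha0
  rw [← subst_comp_subst_apply hsa hs f,
    show subst a f = u * Q q + g by rw [hgdef]; ring]
  rw [← coe_substAlgHom hs, map_add, map_mul, coe_substAlgHom hs]
  have h1 : (subst τ u - u) * subst τ (Q q) ∈ I ^ (m + 4) := by
    rw [show m + 4 = (m + 2) + 2 by ring, pow_add I (m + 2) 2]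
    exact Ideal.mul_mem_mul (hcong u) (subst_mem hτ (Q_mem q))
  have h2 : u * quadEval (fun i j => C (q i j)) h ∈ I ^ (m + 4) := by
    refine Ideal.mul_mem_left _ _ ?_
    rw [quadEval]
    refine sum_mem fun i _ => sum_mem fun j _ => ?_
    split_ifs
    · refine Ideal.pow_le_pow_right (by omega : m + 4 ≤ (m + 2) + (m + 2)) ?_
      rw [pow_add, mul_assoc]
      exact Ideal.mul_mem_left _ _ (Ideal.mul_mem_mul (hh i) (hh j))
    · exact zero_mem _
  have h3 : (u - 1) * ∑ l, h l * dQ q l ∈ I ^ (m + 4) := by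
    rw [show m + 4 = 1 + ((m + 2) + 1) by ring, pow_add, pow_add I (m + 2) 1, pow_one]
    exact Ideal.mul_mem_mul hu (sum_mem fun l _ => Ideal.mul_mem_mul (hh l) (dQ_mem q l))
  have h4 : subst τ g - g ∈ I ^ (m + 4) := by
    obtain ⟨T, hT, hTk⟩ := exists_matrix (k := m + 1) g hg
    rw [← coe_substAlgHom hs, hT]
    simp only [dotProduct, Matrix.mulVec, Finset.mul_sum, map_sum, map_mul, substAlgHom_X]
    simp only [← Finset.sum_sub_distrib]
    refine sum_mem fun i _ => sum_mem fun j _ => ?_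
    have hT' : substAlgHom hs (T i j) ∈ I ^ (m + 1) := by
      rw [coe_substAlgHom]; exact subst_mem hτ (hTk i j)
    have hd : substAlgHom hs (T i j) - T i j ∈ I ^ (m + 2) := by
      rw [coe_substAlgHom]; exact hcong _
    rw [show τ i * (substAlgHom hs (T i j) * τ j) - X i * (T i j * X j) =
      (substAlgHom hs (T i j) - T i j) * (τ i * τ j) + T i j * (τ i * τ j - X i * X j) by ring]
    refine add_mem ?_ ?_
    · rw [show m + 4 = (m + 2) + (1 + 1) by ring, pow_add, pow_add I 1 1, pow_one]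
      exact Ideal.mul_mem_mul hd (Ideal.mul_mem_mul (hτ i) (hτ j))
    · refine Ideal.pow_le_pow_right (by omega : m + 4 ≤ (m + 1) + (m + 3)) ?_
      rw [pow_add]
      refine Ideal.mul_mem_mul (hTk i j) ?_
      rw [show τ i * τ j - X i * X j = -(h i * τ j) - X i * h j by simp only [τ]; ring, pow_succ I (m + 2)]
      exact sub_mem (neg_mem (Ideal.mul_mem_mul (hh i) (hτ j))) (mul_comm (h j) (X i) ▸ Ideal.mul_mem_mul (hh j) (X_mem i))
  have := add_mem (sub_mem (add_mem h1 h2) h3) h4
  convert this using 1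
  rw [subst_Q q hh1]
  linear_combination hge

/-- The normal form. -/
theorem nonempty_equiv [IsAlgClosed k] {q : Fin N → Fin N → k} (hq : QuadOrd q) (f : P)
    (hf : f - Q q ∈ XI (Fin N) k ^ 3) :
    Nonempty ((P ⧸ Ideal.span {f}) ≃ₐ[k] (P ⧸ Ideal.span {Q q})) := by
  set I := XI (Fin N) k with hI
  choose! A U hA hU hE hdA hdU using fun (m : ℕ) (a : Fin N → P) (u : P) (ha : ∀ i, a i - X i ∈ I ^ 2)
    (hu : u - 1 ∈ I) (hg : subst a f - u * Q q ∈ I ^ (m + 3)) => exists_step hq f (m := m) ha hu hg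
  let s : ∀ m : ℕ, {z : (Fin N → P) × P // (∀ i, z.1 i - X i ∈ I ^ 2) ∧ z.2 - 1 ∈ I ∧
      subst z.1 f - z.2 * Q q ∈ I ^ (m + 3)} := fun m =>
    Nat.rec ⟨(X, 1), fun i => by simp, by simp, by rw [congrFun subst_self f, one_mul]; exact hf⟩
      (fun m z => ⟨(A m z.1.1 z.1.2, U m z.1.1 z.1.2),
        hA m _ _ z.2.1 z.2.2.1 z.2.2.2, hU m _ _ z.2.1 z.2.2.1 z.2.2.2, hE m _ _ z.2.1 z.2.2.1 z.2.2.2⟩) m
  have hlim : ∀ w : ℕ → P, (∀ m, w (m + 1) - w m ∈ I ^ (m + 1)) → ∃ L : P, ∀ m, L - w m ∈ I ^ m := by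
    intro w hw
    refine ⟨fun d => coeff d (w d.degree), fun m => mem_iff.2 fun e he => ?_⟩
    rw [map_sub, sub_eq_zero]
    show coeff e (w e.degree) = _
    induction m, he using Nat.le_induction with
    | base =>
      have := low_of_mem (hw e.degree) e (Nat.lt_succ_self _)
      rw [map_sub, sub_eq_zero] at this
      exact this.symm
    | succ m hm ih =>
      rw [ih]
      have := low_of_mem (hw m) e (Nat.lt_succ_of_lt hm)
      rw [map_sub, sub_eq_zero] at this
      exact this.symm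
  choose a ha using fun i => hlim (fun m => (s m).1.1 i) fun m =>
    Ideal.pow_le_pow_right (by omega) (hdA m _ _ (s m).2.1 (s m).2.2.1 (s m).2.2.2 i)
  obtain ⟨u, hu⟩ := hlim (fun m => (s m).1.2) fun m => hdU m _ _ (s m).2.1 (s m).2.2.1 (s m).2.2.2
  have ha2 : ∀ i, a i - X i ∈ I ^ 2 := fun i => by
    have := add_mem (ha i 2) ((s 2).2.1 i)
    simpa using this
  have hu1 : u - 1 ∈ I := by
    have := add_mem (Ideal.pow_le_self one_ne_zero (hu 1)) (s 1).2.2.1
    simpa using this
  have ha0 : ∀ i, a i ∈ I := fun i => by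
    simpa using add_mem (Ideal.pow_le_self two_ne_zero (ha2 i)) (X_mem i)
  have heq : subst a f = u * Q q := by
    refine sub_eq_zero.1 (eq_zero_of_forall_mem fun m => ?_)
    have h1 : ∀ i, (s m).1.1 i ∈ I := fun i => by
      simpa using add_mem (Ideal.pow_le_self two_ne_zero ((s m).2.1 i)) (X_mem i)
    have h2 := subst_congr_pow ha0 h1 (fun i => ha i m) f
    have h3 := Ideal.pow_le_pow_right (by omega : m ≤ m + 3) (s m).2.2.2
    have h4 := Ideal.mul_mem_right (Q q) _ (hu m)
    convert sub_mem (add_mem h2 h3) h4 using 1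
    ring
  have hunit : IsUnit u := by
    rw [MvPowerSeries.isUnit_iff_constantCoeff, isUnit_iff_ne_zero]
    have := mem_iff_constantCoeff.1 hu1
    rw [map_sub, map_one, sub_eq_zero] at this
    rw [this]
    exact one_ne_zero
  let h : Fin N → P := fun i => a i - X i
  have hah : (fun i => X i + h i) = a := funext fun i => add_sub_cancel _ _
  have hbij : Function.Bijective (subst (R := k) a) := hah ▸ subst_bijective (h := h) ha2
  let e : P ≃ₐ[k] P := AlgEquiv.ofBijective (substAlgHom (hasSubst ha0)) (by rw [coe_substAlgHom]; exact hbij)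
  refine ⟨Ideal.quotientEquivAlg _ _ e ?_⟩
  rw [Ideal.map_span, Set.image_singleton]
  have he : (e : P →+* P) f = u * Q q := (congrFun (coe_substAlgHom (hasSubst ha0)) f).trans heq
  rw [he, mul_comm, Ideal.span_singleton_mul_right_unit hunit]

/-- Coefficients of the quadratic form. -/
theorem coeff_Q (q : Fin N → Fin N → k) {i j : Fin N} (hij : i ≤ j) :
    coeff (Finsupp.single i 1 + Finsupp.single j 1) (Q q) = q i j := by
  classical
  have hinj : ∀ a b : Fin N, a ≤ b →
      Finsupp.single a 1 + Finsupp.single b 1 = (Finsupp.single i 1 + Finsupp.single j 1 : Fin N →₀ ℕ) →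
        a = i ∧ b = j := by
    intro a b hab h
    have hi : a = i ∨ b = i := by
      by_contra hne
      push_neg at hne
      have := DFunLike.congr_fun h i
      simp [hne.1, hne.2] at this
      omega
    rcases hi with rfl | rfl
    · exact ⟨rfl, Finsupp.single_left_injective one_ne_zero (add_left_cancel h)⟩
    · have h' := Finsupp.single_left_injective one_ne_zero (add_right_cancel (h.trans (add_comm _ _)))
      subst h'
      exact ⟨le_antisymm hab hij, le_antisymm hij hab⟩
  have hterm : ∀ a b, (C (q a b) : P) * X a * X b = monomial (Finsupp.single a 1 + Finsupp.single b 1) (q a b) := by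
    intro a b
    rw [← monomial_zero_eq_C_apply, X_def, X_def, monomial_mul_monomial, monomial_mul_monomial, zero_add,
      mul_one, mul_one]
  rw [Q, quadEval, map_sum, Finset.sum_eq_single i, map_sum, Finset.sum_eq_single j, if_pos hij, hterm,
    coeff_monomial_same]
  · intro b _ hb
    split_ifs with h
    · rw [hterm, coeff_monomial, if_neg fun e => hb (hinj i b h e.symm).2]
    · exact map_zero _
  · simp
  · intro a _ ha
    rw [map_sum]
    refine Finset.sum_eq_zero fun b _ => ?_
    split_ifs with h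
    · rw [hterm, coeff_monomial, if_neg fun e => ha (hinj a b h e.symm).1]
    · exact map_zero _
  · simp

/-- A series without low terms is its quadratic part modulo terms of order three. -/
theorem sub_quadPart_mem (f : P) (hf : NoLowTerms f) : f - Q (quadPart f) ∈ XI (Fin N) k ^ 3 := by
  classical
  refine mem_iff.2 fun e he => ?_
  rw [map_sub, sub_eq_zero]
  rcases Nat.lt_or_ge e.degree 2 with h | h
  · rw [low_of_mem (Q_mem _) e h]
    exact low_of_mem (mem_sq_iff.2 ⟨hf.1, hf.2⟩) e h
  obtain ⟨i, j, hij, rfl⟩ : ∃ i j, i ≤ j ∧ e = Finsupp.single i 1 + Finsupp.single j 1 := by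
    obtain ⟨i, hi⟩ : ∃ i, e i ≠ 0 := by
      by_contra h0
      push_neg at h0
      have : e = 0 := Finsupp.ext h0
      subst this
      simp at h
    obtain ⟨e', rfl⟩ : ∃ e', e = Finsupp.single i 1 + e' :=
      exists_add_of_le (Finsupp.single_le_iff.2 (Nat.one_le_iff_ne_zero.2 hi))
    have hd : e'.degree = 1 := by
      rw [map_add, Finsupp.degree_single] at he h
      omega
    obtain ⟨j, hj⟩ : ∃ j, e' j ≠ 0 := by
      by_contra h0
      push_neg at h0
      have : e' = 0 := Finsupp.ext h0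
      simp [this] at hd
    obtain ⟨e'', rfl⟩ : ∃ e'', e' = Finsupp.single j 1 + e'' :=
      exists_add_of_le (Finsupp.single_le_iff.2 (Nat.one_le_iff_ne_zero.2 hj))
    rw [map_add, Finsupp.degree_single] at hd
    obtain rfl : e'' = 0 := (Finsupp.degree_eq_zero_iff e'').1 (by omega)
    rw [add_zero]
    rcases le_total i j with hle | hle
    · exact ⟨i, j, hle, rfl⟩
    · exact ⟨j, i, hle, add_comm _ _⟩
  rw [coeff_Q _ hij]
  rcases eq_or_lt_of_le hij with rfl | hlt
  · simp [quadPart, ← Finsupp.single_add]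
  · simp [quadPart, hlt.ne, hlt]

end Groth.Agent.H61.OrdQuad
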