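import Groth.Agent.Lib.ArSing99.QuadJac
import Groth.Agent.H61.OrdQuad.Formal
import Mathlib.RingTheory.AdicCompletion.LocalRing

/-!
# Levels of a local algebra modelled on `k[[x]]/(g)`

* `IsModel g θ`: `θ` induces bijections on all levels.
* `exists_model_of_completion`: from an isomorphism on completions.
* `exists_model_origin`: the cone at the origin.
* `mem_pow_of_map_mem_pow`: surjections between modelled algebras are injective on levels.
-/

set_option autoImplicit false

universe u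

open IsLocalRing Groth.Agent.H61.PSFilt
open Groth.Agent.Lib.ArSing99

namespace Groth.Agent.H61.OrdQuad

variable {k : Type u} [Field k] {N : ℕ} (g : MvPowerSeries (Fin N) k)

local notation "S" => MvPowerSeries (Fin N) k

/-- `θ` induces bijections on all levels. -/
def IsModel {O : Type u} [CommRing O] [IsLocalRing O] [Algebra k O] (θ : O →ₐ[k] S ⧸ Ideal.span {g}) : Prop :=
  (∀ (n : ℕ) (c : S ⧸ Ideal.span {g}), ∃ z, θ z - c ∈ QuadCompletion.M g ^ n) ∧
    ∀ (n : ℕ) (z : O), θ z ∈ QuadCompletion.M g ^ n ↔ z ∈ maximalIdeal O ^ n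

/-- From a completion. -/
theorem exists_model_of_completion {O : Type u} [CommRing O] [IsLocalRing O] [IsNoetherianRing O] [Algebra k O]
    (hg : g ∈ XI (Fin N) k)
    (e : AdicCompletion (maximalIdeal O) O ≃ₐ[k] (S ⧸ Ideal.span {g})) :
    ∃ θ : O →ₐ[k] S ⧸ Ideal.span {g}, IsModel g θ := by
  let A := AdicCompletion (maximalIdeal O) O
  let θ : O →ₐ[k] S ⧸ Ideal.span {g} := e.toAlgHom.comp (IsScalarTower.toAlgHom k O A)
  haveI : Nontrivial (S ⧸ Ideal.span {g}) := Ideal.Quotient.nontrivial_iff.2 fun h => by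
    have := mem_iff_constantCoeff.1 ((Ideal.span_singleton_le_iff_mem (XI (Fin N) k)).2 hg
      (h ▸ (Submodule.mem_top : (1 : S) ∈ ⊤)))
    simp at this
  haveI : IsLocalRing (S ⧸ Ideal.span {g}) :=
    IsLocalRing.of_surjective' (Ideal.Quotient.mk _) Ideal.Quotient.mk_surjective
  have hM : QuadCompletion.M g = maximalIdeal (S ⧸ Ideal.span {g}) := by
    rw [QuadCompletion.M, QuadCompletion.XI_eq_maximalIdeal,
      IsLocalRing.map_maximalIdeal_of_surjective _ Ideal.Quotient.mk_surjective]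
  have he : (maximalIdeal A).map e = QuadCompletion.M g := by
    rw [hM]
    exact IsLocalRing.map_maximalIdeal_of_surjective (e : A →+* S ⧸ Ideal.span {g}) e.surjective
  have hker : ∀ (n : ℕ) (x : A), AdicCompletion.evalₐ (maximalIdeal O) n x = 0 ↔ x ∈ maximalIdeal A ^ n := by
    intro n x
    have h : (maximalIdeal O ^ n • ⊤ : Ideal O) = maximalIdeal O ^ n := by ext y; simp
    rw [AdicCompletion.maximalIdeal_eq_map, ← Ideal.map_pow, ← Submodule.restrictScalars_mem O,
      ← Ideal.smul_top_eq_map, AdicCompletion.pow_smul_top_eq_ker_eval (maximalIdeal O).fg_of_isNoetherianRing,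
      LinearMap.mem_ker]
    exact (Ideal.quotientEquivAlgOfEq O h).injective.eq_iff' (map_zero _)
  refine ⟨θ, fun n c => ?_, fun n z => ?_⟩
  · obtain ⟨x, rfl⟩ := e.surjective c
    obtain ⟨z, hz⟩ := Ideal.Quotient.mk_surjective (AdicCompletion.evalₐ (maximalIdeal O) n x)
    refine ⟨z, ?_⟩
    have h : algebraMap O A z - x ∈ maximalIdeal A ^ n := by
      rw [← hker, map_sub, AlgHom.commutes, Ideal.Quotient.algebraMap_eq, hz, sub_self]
    rw [← he, ← Ideal.map_pow]
    have := Ideal.mem_map_of_mem e h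
    rwa [map_sub] at this
  · rw [show θ z = e (algebraMap O A z) from rfl, ← he, ← Ideal.map_pow]
    have h1 : e (algebraMap O A z) ∈ (maximalIdeal A ^ n).map e ↔ algebraMap O A z ∈ maximalIdeal A ^ n := by
      refine ⟨fun h => ?_, Ideal.mem_map_of_mem e⟩
      rw [Ideal.mem_map_iff_of_surjective _ e.surjective] at h
      obtain ⟨w, hw, hwe⟩ := h
      rwa [← e.injective hwe]
    rw [h1, ← hker, AlgHom.commutes, Ideal.Quotient.algebraMap_eq, Ideal.Quotient.eq_zero_iff_mem]

/-- The cone at the origin. -/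
theorem exists_model_origin (q : Fin N → Fin N → k) [hP : (VanCyc.originQuot k q 0).IsPrime] :
    ∃ θ : Localization.AtPrime (VanCyc.originQuot k q 0) →ₐ[k] S ⧸ Ideal.span {Q q},
      IsModel (O := Localization.AtPrime (VanCyc.originQuot k q 0)) (Q q) θ := by
  classical
  set f : MvPolynomial (Fin N) k := VanCyc.quadPoly q - MvPolynomial.C 0 with hf
  set P := VanCyc.originQuot k q 0 with hPdef
  let T := Localization.AtPrime P
  have hgS : ((f : MvPolynomial (Fin N) k) : S) = Q q := by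
    rw [hf, map_zero, sub_zero, coe_quadPoly]
  have hg1 : Q q ∈ XI (Fin N) k := Ideal.pow_le_self two_ne_zero (Q_mem q)
  have hPX : P = (MvPolynomial.idealOfVars (Fin N) k).map (Ideal.Quotient.mk (Ideal.span {f})) := by
    rw [hPdef, VanCyc.originQuot, VanCyc.originIdeal, MvPolynomial.idealOfVars, IsLocalRing.maximalIdeal_eq_bot,
      Ideal.map_bot, bot_sup_eq]
  have hcc : ∀ p : MvPolynomial (Fin N) k, MvPolynomial.constantCoeff p = 0 → p ∈ MvPolynomial.idealOfVars (Fin N) k := by
    intro p hp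
    rw [← pow_one (MvPolynomial.idealOfVars (Fin N) k), MvPolynomial.mem_pow_idealOfVars_iff']
    intro x hx
    have : x = 0 := (Finsupp.degree_eq_zero_iff x).1 (by omega)
    rw [this, ← MvPolynomial.constantCoeff_eq]
    exact hp
  let θ₀ : (MvPolynomial (Fin N) k ⧸ Ideal.span {f}) →ₐ[k] S ⧸ Ideal.span {Q q} :=
    Ideal.Quotient.liftₐ _ ((Ideal.Quotient.mkₐ k _).comp (MvPolynomial.coeToMvPowerSeries.algHom k)) fun p hp => by
      obtain ⟨c, rfl⟩ := Ideal.mem_span_singleton'.1 hp
      rw [AlgHom.comp_apply, Ideal.Quotient.mkₐ_eq_mk, map_mul, Ideal.Quotient.eq_zero_iff_mem,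
        MvPolynomial.coeToMvPowerSeries.algHom_apply, MvPolynomial.coeToMvPowerSeries.algHom_apply]
      simp only [Algebra.algebraMap_self, MvPowerSeries.map_id, RingHom.id_apply, hgS]
      exact Ideal.mul_mem_left _ _ (Ideal.mem_span_singleton_self _)
  have hθ₀ : ∀ p : MvPolynomial (Fin N) k, θ₀ (Ideal.Quotient.mk _ p) = Ideal.Quotient.mk _ (p : S) := fun p => by
    show Ideal.Quotient.mk _ (MvPolynomial.coeToMvPowerSeries.algHom k p) = _
    rw [MvPolynomial.coeToMvPowerSeries.algHom_apply]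
    simp
  have hunit : ∀ y : P.primeCompl, IsUnit (θ₀ y) := by
    rintro ⟨y, hy⟩
    obtain ⟨p, rfl⟩ := Ideal.Quotient.mk_surjective y
    show IsUnit (θ₀ (Ideal.Quotient.mk _ p))
    rw [hθ₀, QuadJac.isUnit_mk_iff hg1]
    intro h
    apply hy
    rw [hPX]
    refine Ideal.mem_map_of_mem _ (hcc p ?_)
    rw [MvPolynomial.constantCoeff_eq, ← MvPolynomial.coeff_coe, MvPowerSeries.coeff_zero_eq_constantCoeff_apply]
    exact h
  let θ : T →ₐ[k] S ⧸ Ideal.span {Q q} := IsLocalization.liftAlgHom hunit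
  have hθ : ∀ p, θ (algebraMap _ _ (Ideal.Quotient.mk (Ideal.span {f}) p)) = Ideal.Quotient.mk _ ((p : MvPolynomial (Fin N) k) : S) :=
    fun p => (IsLocalization.lift_eq _ _).trans (hθ₀ p)
  have hθle : (maximalIdeal T).map θ ≤ QuadCompletion.M (Q q) := by
    rw [← IsLocalization.AtPrime.map_eq_maximalIdeal P T, Ideal.map_le_iff_le_comap, Ideal.map_le_iff_le_comap]
    refine hPX.le.trans ?_
    rw [Ideal.map_le_iff_le_comap, MvPolynomial.idealOfVars, Ideal.span_le]
    rintro _ ⟨i, rfl⟩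
    show θ (algebraMap _ _ (Ideal.Quotient.mk (Ideal.span {f}) (MvPolynomial.X i))) ∈ QuadCompletion.M (Q q)
    rw [hθ, MvPolynomial.coe_X]
    exact Ideal.mem_map_of_mem _ (X_mem i)
  refine ⟨θ, fun n c => ?_, fun n z => ⟨fun hz => ?_, fun hz => Ideal.pow_right_mono hθle n ?_⟩⟩
  rotate_left 2
  · rw [← Ideal.map_pow]; exact Ideal.mem_map_of_mem _ hz
  · obtain ⟨v, rfl⟩ := Ideal.Quotient.mk_surjective c
    refine ⟨algebraMap _ T (Ideal.Quotient.mk (Ideal.span {f}) (MvPowerSeries.truncTotal n v)), ?_⟩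
    rw [hθ, ← map_sub, QuadCompletion.M, ← Ideal.map_pow]
    refine Ideal.mem_map_of_mem _ ?_
    rw [← neg_sub]
    exact neg_mem (sub_truncTotal_mem n v)
  · obtain ⟨⟨b, s⟩, hbs⟩ := IsLocalization.surj P.primeCompl z
    have hs : IsUnit (algebraMap _ T (s : MvPolynomial (Fin N) k ⧸ Ideal.span {f})) :=
      IsLocalization.map_units _ s
    rw [← Ideal.mul_unit_mem_iff_mem _ hs]
    dsimp only at hbs
    rw [hbs]
    have hb := Ideal.mul_mem_right (θ (algebraMap _ _ (s : MvPolynomial (Fin N) k ⧸ Ideal.span {f}))) _ hz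
    rw [← map_mul, hbs] at hb
    obtain ⟨p, rfl⟩ := Ideal.Quotient.mk_surjective b
    rw [hθ, QuadCompletion.M, ← Ideal.map_pow,
      Ideal.mem_map_iff_of_surjective _ Ideal.Quotient.mk_surjective] at hb
    obtain ⟨j, hj, hjp⟩ := hb
    obtain ⟨c, hc⟩ := Ideal.mem_span_singleton'.1 (Ideal.Quotient.eq.1 hjp.symm)
    set r := p - f * MvPowerSeries.truncTotal n c with hr
    have hr1 : (r : S) ∈ XI (Fin N) k ^ n := by
      have e : (r : S) = j + Q q * (c - (MvPowerSeries.truncTotal n c : MvPolynomial (Fin N) k)) := by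
        rw [hr, ← MvPolynomial.coeToMvPowerSeries.ringHom_apply, map_sub, map_mul,
          MvPolynomial.coeToMvPowerSeries.ringHom_apply, MvPolynomial.coeToMvPowerSeries.ringHom_apply,
          MvPolynomial.coeToMvPowerSeries.ringHom_apply, hgS]
        linear_combination -hc
      rw [e]
      exact add_mem hj (Ideal.mul_mem_left _ _ (sub_truncTotal_mem n c))
    have hr2 : r ∈ MvPolynomial.idealOfVars (Fin N) k ^ n := (MvPolynomial.mem_pow_idealOfVars_iff' n r).2
      fun x hx => by rw [← MvPolynomial.coeff_coe]; exact low_of_mem hr1 x hx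
    have hp : Ideal.Quotient.mk (Ideal.span {f}) p ∈ P ^ n := by
      have h1 := Ideal.mem_map_of_mem (Ideal.Quotient.mk (Ideal.span {f})) hr2
      rw [Ideal.map_pow, ← hPX, hr, map_sub, map_mul, Ideal.Quotient.mk_singleton_self, zero_mul, sub_zero] at h1
      exact h1
    have := Ideal.mem_map_of_mem (algebraMap _ T) hp
    rwa [Ideal.map_pow, IsLocalization.AtPrime.map_eq_maximalIdeal P T] at this

/-- A surjective endomorphism of a Noetherian ring is injective. -/
theorem injective_of_surjective_endo {A : Type u} [CommRing A] [IsNoetherianRing A] (f : A →+* A)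
    (hf : Function.Surjective f) : Function.Injective f := by
  rw [injective_iff_map_eq_zero]
  intro x hx
  let K : ℕ →o Ideal A :=
    { toFun := fun n => Nat.rec ⊥ (fun _ I => I.comap f) n
      monotone' := monotone_nat_of_le_succ fun n => by
        induction n with
        | zero => exact bot_le
        | succ n ih => exact Ideal.comap_mono ih }
  obtain ⟨n, hn⟩ := monotone_stabilizes_iff_noetherian.mpr (inferInstance : IsNoetherian A A) K
  have key : ∀ (m : ℕ) (y : A), y ∈ K m ↔ f^[m] y = 0 := by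
    intro m
    induction m with
    | zero => intro y; exact Ideal.mem_bot
    | succ m ih => intro y; rw [Function.iterate_succ_apply]; exact ih (f y)
  obtain ⟨y, rfl⟩ := (hf.iterate n) x
  have h : y ∈ K (n + 1) := by rw [key, Function.iterate_succ_apply']; exact hx
  rw [← hn (n + 1) (Nat.le_succ n)] at h
  exact (key n y).1 h

/-- Surjections on levels between algebras with the same levels are injective on levels. -/
theorem mem_pow_of_map_mem_pow {C O H : Type u} [CommRing C] [IsLocalRing C] [Algebra k C] [CommRing O]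
    [IsLocalRing O] [Algebra k O] [CommRing H] [IsLocalRing H] {θC : C →ₐ[k] S ⧸ Ideal.span {g}}
    {θO : O →ₐ[k] S ⧸ Ideal.span {g}} (hC : IsModel g θC) (hO : IsModel g θO) (i : O →+* H) (ψ : C →+* H)
    (n : ℕ) (hi : Function.Bijective (Ideal.quotientMap ((maximalIdeal O ^ n).map i) i Ideal.le_comap_map))
    (hmap : (maximalIdeal O ^ n).map i = maximalIdeal H ^ n)
    (hsur : ∀ z : H, ∃ c : C, ψ c - z ∈ maximalIdeal H ^ n)
    (hψ : ∀ c ∈ maximalIdeal C ^ n, ψ c ∈ maximalIdeal H ^ n) {c : C} (hc : ψ c ∈ maximalIdeal H ^ n) :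
    c ∈ maximalIdeal C ^ n := by
  classical
  let MM := (S ⧸ Ideal.span {g}) ⧸ QuadCompletion.M g ^ n
  let lC : C ⧸ maximalIdeal C ^ n →+* MM := Ideal.Quotient.lift _ ((Ideal.Quotient.mk _).comp θC.toRingHom)
    fun z hz => Ideal.Quotient.eq_zero_iff_mem.2 ((hC.2 n z).2 hz)
  let lO : O ⧸ maximalIdeal O ^ n →+* MM := Ideal.Quotient.lift _ ((Ideal.Quotient.mk _).comp θO.toRingHom)
    fun z hz => Ideal.Quotient.eq_zero_iff_mem.2 ((hO.2 n z).2 hz)
  have bij : ∀ {D : Type u} [CommRing D] [IsLocalRing D] [Algebra k D] (θ : D →ₐ[k] S ⧸ Ideal.span {g})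
      (h : IsModel g θ) (l : D ⧸ maximalIdeal D ^ n →+* MM)
      (hl : ∀ z, l (Ideal.Quotient.mk _ z) = Ideal.Quotient.mk _ (θ z)), Function.Bijective l := by
    intro D _ _ _ θ h l hl
    refine ⟨(injective_iff_map_eq_zero _).2 fun z hz => ?_, fun x => ?_⟩
    · obtain ⟨z, rfl⟩ := Ideal.Quotient.mk_surjective z
      rw [hl, Ideal.Quotient.eq_zero_iff_mem] at hz
      exact Ideal.Quotient.eq_zero_iff_mem.2 ((h.2 n z).1 hz)
    · obtain ⟨x, rfl⟩ := Ideal.Quotient.mk_surjective x
      obtain ⟨z, hz⟩ := h.1 n x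
      exact ⟨Ideal.Quotient.mk _ z, by rw [hl]; exact Ideal.Quotient.eq.2 hz⟩
  have bC := bij (D := C) θC hC lC fun z => rfl
  have bO := bij (D := O) θO hO lO fun z => rfl
  let eC := RingEquiv.ofBijective lC bC
  let eO := RingEquiv.ofBijective lO bO
  let eH : O ⧸ maximalIdeal O ^ n ≃+* H ⧸ maximalIdeal H ^ n :=
    (RingEquiv.ofBijective _ hi).trans (Ideal.quotEquivOfEq hmap)
  let α : C ⧸ maximalIdeal C ^ n →+* H ⧸ maximalIdeal H ^ n :=
    Ideal.quotientMap _ ψ fun z hz => hψ z hz
  let f : MM →+* MM := (eO.toRingHom.comp eH.symm.toRingHom).comp (α.comp eC.symm.toRingHom)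
  have hf : Function.Surjective f := by
    refine (eO.surjective.comp eH.symm.surjective).comp (Function.Surjective.comp (g := α) ?_ eC.symm.surjective)
    intro x
    obtain ⟨x, rfl⟩ := Ideal.Quotient.mk_surjective x
    obtain ⟨z, hz⟩ := hsur x
    exact ⟨Ideal.Quotient.mk _ z, Ideal.Quotient.eq.2 hz⟩
  have h0 : eC (Ideal.Quotient.mk _ c) = 0 := by
    refine injective_of_surjective_endo f hf ?_
    rw [map_zero]
    show eO (eH.symm (α (eC.symm (eC (Ideal.Quotient.mk _ c))))) = 0
    rw [RingEquiv.symm_apply_apply, show α (Ideal.Quotient.mk _ c) = Ideal.Quotient.mk _ (ψ c) from rfl,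
      Ideal.Quotient.eq_zero_iff_mem.2 hc, map_zero, map_zero]
  exact Ideal.Quotient.eq_zero_iff_mem.1 (eC.injective (h0.trans (map_zero _).symm))

end Groth.Agent.H61.OrdQuad
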