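import Groth.Agent.H61.OrdQuad.Hens
import Groth.Agent.H61.OrdQuad.Model
import Groth.Agent.S0510
import Groth.Agent.S0511
import Groth.Agent.S0596
import Groth.Agent.S0598
import Groth.Agent.S0599
import Groth.Agent.S2045
import Groth.Agent.Lib.Henselian.GRingHens
import Groth.Agent.Lib.GrpSch.UnitOpen
import Groth.Agent.Lib.Excellent.GRingStability

/-!
# Henselization of a local algebra modelled on a quadratic cone

* `exists_coords`: generators of the maximal ideal of the henselization satisfying the cone equation.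
* `nonempty_algEquiv`: the henselization is the henselization of the cone at the origin.
-/

set_option autoImplicit false

universe u

open IsLocalRing Groth.Agent.H61.PSFilt

namespace Groth.Agent.H61.OrdQuad

variable {k : Type u} [Field k] {O : Type u} [CommRing O] [IsLocalRing O] [Algebra k O]
  {H : Type u} [CommRing H] [IsLocalRing H] [Algebra O H] [IsLocalHom (algebraMap O H)]
  [Hensel.IsHenselization O H] [Algebra k H] [IsScalarTower k O H]

theorem isGRing_essFiniteType (k : Type u) [Field k] (O : Type u) [CommRing O] [Algebra k O]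
    [Algebra.EssFiniteType k O] : CAlg.IsGRing O := by
  haveI : IsAdicComplete (maximalIdeal k) k := by
    rw [IsLocalRing.maximalIdeal_eq_bot]; infer_instance
  exact Groth.Agent.Lib.Excellent.GRingStability.isGRing_of_isLocalization
    (Algebra.EssFiniteType.submonoid k O)
    (Groth.Agent.S0599.result k (Groth.Agent.S0598.result k) (Algebra.EssFiniteType.subalgebra k O))

theorem residue_surjective_hens (hk : ∀ y : O, ∃ c : k, y - algebraMap k O c ∈ maximalIdeal O) (z : H) :
    ∃ c : k, z - algebraMap k H c ∈ maximalIdeal H := by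
  obtain ⟨r, hr⟩ := Groth.Agent.Lib.Henselian.Henselization.exists_sub_mem O H z
  obtain ⟨c, hc⟩ := hk r
  refine ⟨c, ?_⟩
  have h := Ideal.mem_map_of_mem (algebraMap O H) hc
  rw [Groth.Agent.Lib.Henselian.Henselization.map_maximalIdeal O H, map_sub,
    ← IsScalarTower.algebraMap_apply] at h
  simpa using add_mem hr h

theorem mem_originQuot {N : ℕ} (q : Fin N → Fin N → k) (p : MvPolynomial (Fin N) k)
    (hp : MvPolynomial.constantCoeff p = 0) : Ideal.Quotient.mk _ p ∈ VanCyc.originQuot k q 0 := by
  refine Ideal.mem_map_of_mem _ (Ideal.mem_sup_right ?_)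
  show p ∈ MvPolynomial.idealOfVars (Fin N) k
  rw [← pow_one (MvPolynomial.idealOfVars (Fin N) k), MvPolynomial.mem_pow_idealOfVars_iff']
  intro x hx
  have : x = 0 := (Finsupp.degree_eq_zero_iff x).1 (by omega)
  rw [this, ← MvPolynomial.constantCoeff_eq]
  exact hp

theorem originQuot_le {N : ℕ} (q : Fin N → Fin N → k) {I : Ideal (VanCyc.quadRing k q 0)}
    (h : ∀ i, Ideal.Quotient.mk _ (MvPolynomial.X i) ∈ I) : VanCyc.originQuot k q 0 ≤ I := by
  rw [VanCyc.originQuot, VanCyc.originIdeal, IsLocalRing.maximalIdeal_eq_bot, Ideal.map_bot, bot_sup_eq,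
    Ideal.map_le_iff_le_comap, Ideal.span_le]
  rintro _ ⟨i, rfl⟩
  exact h i

variable [Algebra.EssFiniteType k O] {N : ℕ}

/-- Generators of the maximal ideal of the henselization satisfying the equation of the cone. -/
theorem exists_coords (hk : ∀ y : O, ∃ c : k, y - algebraMap k O c ∈ maximalIdeal O) (q : Fin N → Fin N → k)
    (e : AdicCompletion (maximalIdeal O) O ≃ₐ[k] (MvPowerSeries (Fin N) k ⧸ Ideal.span {Q q})) :
    ∃ b : Fin N → H, maximalIdeal H = Ideal.span (Set.range b) ∧
      MvPolynomial.aeval b (VanCyc.quadPoly q) = 0 := by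
  classical
  haveI : IsNoetherianRing O := Algebra.EssFiniteType.isNoetherianRing k O
  haveI : IsNoetherianRing H := (Groth.Agent.S0511.result O H).1 inferInstance
  haveI : HenselianLocalRing H := Hensel.IsHenselization.henselian O
  have hG : CAlg.IsGRing H := Groth.Agent.S2045.result (R := O) (isGRing_essFiniteType k O)
  obtain ⟨φ⟩ := Groth.Agent.Lib.Henselian.GRingHens.exists_cplEquiv_of_trunc O H (maximalIdeal O)
    (maximalIdeal H) (Groth.Agent.Lib.Henselian.Henselization.map_maximalIdeal O H)
    (fun n => Groth.Agent.S0510.result O H n)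
  let A := AdicCompletion (maximalIdeal H) H
  let T : (MvPowerSeries (Fin N) k ⧸ Ideal.span {Q q}) →+* A :=
    (φ : AdicCompletion (maximalIdeal O) O →+* A).comp
      (e.symm : (MvPowerSeries (Fin N) k ⧸ Ideal.span {Q q}) →+* AdicCompletion (maximalIdeal O) O)
  have hTs : Function.Surjective T := φ.surjective.comp e.symm.surjective
  have hTk : ∀ c : k, T (algebraMap k _ c) = algebraMap H A (algebraMap k H c) := fun c => by
    show φ (e.symm (algebraMap k _ c)) = _
    rw [AlgEquiv.commutes, IsScalarTower.algebraMap_apply k O (AdicCompletion (maximalIdeal O) O),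
      AlgEquiv.commutes, IsScalarTower.algebraMap_apply k O H, ← IsScalarTower.algebraMap_apply O H A]
  let a : Fin N → A := fun i => T (Ideal.Quotient.mk _ (MvPowerSeries.X i))
  let F : Fin 1 → MvPolynomial (Fin N) H := fun _ => MvPolynomial.map (algebraMap k H) (VanCyc.quadPoly q)
  have ha : ∀ j, MvPolynomial.eval a (MvPolynomial.map (algebraMap H A) (F j)) = 0 := by
    intro j
    let Φ : MvPolynomial (Fin N) k →+* A :=
      T.comp ((Ideal.Quotient.mk _).comp MvPolynomial.coeToMvPowerSeries.ringHom)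
    have hΦ : MvPolynomial.eval₂Hom ((algebraMap H A).comp (algebraMap k H)) a = Φ := by
      refine MvPolynomial.ringHom_ext (fun c => ?_) (fun i => ?_)
      · show MvPolynomial.eval₂ _ a (MvPolynomial.C c) =
          T (Ideal.Quotient.mk _ ((MvPolynomial.C c : MvPolynomial (Fin N) k) : MvPowerSeries (Fin N) k))
        rw [MvPolynomial.eval₂_C, MvPolynomial.coe_C, RingHom.comp_apply, ← hTk]
        rfl
      · show MvPolynomial.eval₂ _ a (MvPolynomial.X i) =
          T (Ideal.Quotient.mk _ ((MvPolynomial.X i : MvPolynomial (Fin N) k) : MvPowerSeries (Fin N) k))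
        rw [MvPolynomial.eval₂_X, MvPolynomial.coe_X]
    rw [MvPolynomial.eval_map, MvPolynomial.eval₂_map]
    refine (RingHom.congr_fun hΦ _).trans ?_
    show T (Ideal.Quotient.mk _ ((VanCyc.quadPoly q : MvPolynomial (Fin N) k) : MvPowerSeries (Fin N) k)) = 0
    rw [coe_quadPoly, Ideal.Quotient.mk_singleton_self, map_zero]
  obtain ⟨b, hb, hab⟩ := Groth.Agent.S0596.result H hG N 1 F a ha 2
  have hbQ : MvPolynomial.aeval b (VanCyc.quadPoly q) = 0 := by
    rw [MvPolynomial.aeval_def, ← MvPolynomial.eval_map]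
    exact hb 0
  have hev : ∀ i, AdicCompletion.evalₐ (maximalIdeal H) 2 (a i) = Ideal.Quotient.mk _ (b i) := by
    intro i
    have h : (maximalIdeal H ^ 2).map (algebraMap H A) ≤
        RingHom.ker (AdicCompletion.evalₐ (maximalIdeal H) 2).toRingHom := by
      rw [Ideal.map_le_iff_le_comap]
      intro z hz
      rw [Ideal.mem_comap, RingHom.mem_ker]
      show AdicCompletion.evalₐ (maximalIdeal H) 2 (algebraMap H A z) = 0
      rw [AlgHom.commutes, Ideal.Quotient.algebraMap_eq, Ideal.Quotient.eq_zero_iff_mem]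
      exact hz
    have h2 : AdicCompletion.evalₐ (maximalIdeal H) 2 (a i - algebraMap H A (b i)) = 0 := h (hab i)
    rwa [map_sub, AlgHom.commutes, sub_eq_zero] at h2
  have hbm : ∀ i, b i ∈ maximalIdeal H := by
    intro i
    by_contra hi
    rw [mem_maximalIdeal, mem_nonunits_iff, not_not] at hi
    have hu : IsUnit (a i) := by
      have h := IsUnit.map (algebraMap H A) hi
      have hm : (maximalIdeal H ^ 2).map (algebraMap H A) ≤ maximalIdeal A := by
        rw [AdicCompletion.maximalIdeal_eq_map]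
        exact Ideal.map_mono (Ideal.pow_le_self two_ne_zero)
      by_contra hai
      have hai' : a i ∈ maximalIdeal A := hai
      have h' := sub_mem hai' (hm (hab i))
      rw [sub_sub_cancel] at h'
      exact h' h
    have hu' : IsUnit (Ideal.Quotient.mk (Ideal.span {Q q}) (MvPowerSeries.X i)) := by
      have h := (hu.map φ.symm.toAlgHom).map e.toAlgHom
      simpa [a, T] using h
    rw [Groth.Agent.Lib.ArSing99.QuadJac.isUnit_mk_iff (Ideal.pow_le_self two_ne_zero (Q_mem q))] at hu'
    exact hu' (MvPowerSeries.constantCoeff_X i)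
  refine ⟨b, le_antisymm ?_ (Ideal.span_le.2 (Set.range_subset_iff.2 hbm)), hbQ⟩
  refine Submodule.le_of_le_smul_of_le_jacobson_bot (IsNoetherian.noetherian _)
    (IsLocalRing.maximalIdeal_le_jacobson ⊥) fun z hz => ?_
  rw [Ideal.smul_eq_mul, ← sq]
  obtain ⟨v, hv⟩ := hTs (algebraMap H A z)
  obtain ⟨v, rfl⟩ := Ideal.Quotient.mk_surjective v
  have hv0 : v - MvPowerSeries.C (MvPowerSeries.constantCoeff v) ∈ XI (Fin N) k := by
    rw [mem_iff_constantCoeff]; simp
  rw [XI, Ideal.span, Submodule.mem_span_range_iff_exists_fun] at hv0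
  obtain ⟨c, hc⟩ := hv0
  choose c' hc' using fun i => Ideal.Quotient.mk_surjective
    (AdicCompletion.evalₐ (maximalIdeal H) 2 (T (Ideal.Quotient.mk _ (c i))))
  have key : Ideal.Quotient.mk (maximalIdeal H ^ 2) z = Ideal.Quotient.mk _
      (algebraMap k H (MvPowerSeries.constantCoeff v) + ∑ i, c' i * b i) := by
    have h := congrArg (fun x => AdicCompletion.evalₐ (maximalIdeal H) 2 x) hv
    rw [AlgHom.commutes, Ideal.Quotient.algebraMap_eq] at h
    rw [← h, ← sub_add_cancel v (MvPowerSeries.C (MvPowerSeries.constantCoeff v)), ← hc, add_comm, map_add,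
      map_add, map_add, map_sum, map_sum, map_sum, map_add, map_sum]
    congr 1
    · show AdicCompletion.evalₐ (maximalIdeal H) 2 (T (algebraMap k _ (MvPowerSeries.constantCoeff v))) = _
      rw [hTk, AlgHom.commutes, Ideal.Quotient.algebraMap_eq]
      congr 2
      simp
    · refine Finset.sum_congr rfl fun i _ => ?_
      rw [smul_eq_mul, map_mul, map_mul, map_mul, map_mul, hc', ← hev]
  rw [Ideal.Quotient.eq] at key
  have hc0 : MvPowerSeries.constantCoeff v = 0 := by
    by_contra h0
    have hs : (∑ i, c' i * b i) ∈ maximalIdeal H :=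
      Ideal.sum_mem _ fun i _ => Ideal.mul_mem_left _ _ (hbm i)
    have := sub_mem (sub_mem hz (Ideal.pow_le_self two_ne_zero key)) hs
    have h1 : algebraMap k H (MvPowerSeries.constantCoeff v) ∈ maximalIdeal H := by
      convert this using 1; ring
    exact h1 ((Ne.isUnit h0).map (algebraMap k H))
  rw [hc0, map_zero, zero_add] at key
  have hs : (∑ i, c' i * b i) ∈ Ideal.span (Set.range b) :=
    Ideal.sum_mem _ fun i _ => Ideal.mul_mem_left _ _ (Ideal.subset_span ⟨i, rfl⟩)
  rw [show z = (∑ i, c' i * b i) + (z - ∑ i, c' i * b i) by ring]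
  exact Submodule.add_mem_sup hs key

/-- Polynomials in generators of the maximal ideal reach every level. -/
theorem exists_poly_approx {L : Type u} [CommRing L] [IsLocalRing L] [Algebra k L]
    (hk : ∀ z : L, ∃ c : k, z - algebraMap k L c ∈ maximalIdeal L) (b : Fin N → L)
    (hb : maximalIdeal L = Ideal.span (Set.range b)) (n : ℕ) (z : L) :
    ∃ p : MvPolynomial (Fin N) k, MvPolynomial.aeval b p - z ∈ maximalIdeal L ^ n := by
  induction n generalizing z with
  | zero => exact ⟨0, by simp⟩
  | succ n ih =>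
    obtain ⟨c, hc⟩ := hk z
    have hc' := hc
    rw [hb, Ideal.span, Submodule.mem_span_range_iff_exists_fun] at hc'
    obtain ⟨r, hr⟩ := hc'
    choose p hp using fun i => ih (r i)
    refine ⟨MvPolynomial.C c + ∑ i, p i * MvPolynomial.X i, ?_⟩
    have h : MvPolynomial.aeval b (MvPolynomial.C c + ∑ i, p i * MvPolynomial.X i) - z =
        ∑ i, (MvPolynomial.aeval b (p i) - r i) * b i := by
      simp only [map_add, map_sum, map_mul, MvPolynomial.aeval_C, MvPolynomial.aeval_X, sub_mul,
        Finset.sum_sub_distrib]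
      have : z = algebraMap k L c + ∑ i, r i * b i := by
        have := hr; simp only [smul_eq_mul] at this; rw [this]; ring
      linear_combination -this
    rw [h, pow_succ]
    exact Ideal.sum_mem _ fun i _ => Ideal.mul_mem_mul (hp i) (hb ▸ Ideal.subset_span ⟨i, rfl⟩)

/-- The henselization of a local algebra with completion the completed cone is the henselization of the cone. -/
theorem nonempty_algEquiv [IsSepClosed k]
    (hk : ∀ y : O, ∃ c : k, y - algebraMap k O c ∈ maximalIdeal O) (q : Fin N → Fin N → k)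
    (e : AdicCompletion (maximalIdeal O) O ≃ₐ[k] (MvPowerSeries (Fin N) k ⧸ Ideal.span {Q q}))
    [(VanCyc.originQuot k q 0).IsPrime] (C : Type u) [CommRing C] [IsLocalRing C]
    [Algebra (Localization.AtPrime (VanCyc.originQuot k q 0)) C]
    [IsLocalHom (algebraMap (Localization.AtPrime (VanCyc.originQuot k q 0)) C)]
    [Hensel.IsHenselization (Localization.AtPrime (VanCyc.originQuot k q 0)) C]
    [Algebra k C] [IsScalarTower k (Localization.AtPrime (VanCyc.originQuot k q 0)) C] :
    Nonempty (H ≃ₐ[k] C) := by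
  classical
  set P := VanCyc.originQuot k q 0 with hPdef
  let C0 := Localization.AtPrime P
  haveI : IsNoetherianRing O := Algebra.EssFiniteType.isNoetherianRing k O
  have hg : Q q ∈ XI (Fin N) k := Ideal.pow_le_self two_ne_zero (Q_mem q)
  obtain ⟨θO, hθO⟩ := exists_model_of_completion (Q q) hg e
  obtain ⟨θC, hθC⟩ := exists_model_origin q
  obtain ⟨b, hb, hbQ⟩ := exists_coords (H := H) hk q e
  have hkH := residue_surjective_hens (H := H) hk
  haveI : IsSepClosed (ResidueField O) := by
    refine Groth.Agent.Lib.Henselian.StrictHenselization.isSepClosed_of_ringEquiv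
      (RingEquiv.ofBijective ((residue O).comp (algebraMap k O)) ⟨RingHom.injective _, fun x => ?_⟩)
    obtain ⟨y, rfl⟩ := residue_surjective x
    obtain ⟨c, hc⟩ := hk y
    exact ⟨c, (Ideal.Quotient.eq.2 hc).symm⟩
  haveI := Hens.isStrictHenselization_of_isSepClosed O H
  obtain ⟨E, _, hsE, hEloc, hE, hEff⟩ :=
    Groth.Agent.H24.EssEtale.exists_stage (A := O) (S := H) (Finset.univ.image b)
  haveI : IsLocalHom (algebraMap O E) := Groth.Agent.H24.EssEtale.isLocalHom hE
  obtain ⟨hEfe, hEeft⟩ := Groth.Agent.Lib.Henselian.EssEtale.formallyEtale hE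
  haveI : Algebra.EssFiniteType k E := Algebra.EssFiniteType.comp k O E
  haveI : IsNoetherianRing E := Algebra.EssFiniteType.isNoetherianRing k E
  have hmE : (maximalIdeal E).map (algebraMap E H) = maximalIdeal H := by
    refine le_antisymm (map_maximalIdeal_le _) ?_
    rw [← Groth.Agent.Lib.Henselian.Henselization.map_maximalIdeal O H, IsScalarTower.algebraMap_eq O E H,
      ← Ideal.map_map]
    exact Ideal.map_mono (map_maximalIdeal_le _)
  have hpow : ∀ (n : ℕ) (z : E), (z : H) ∈ maximalIdeal H ^ n → z ∈ maximalIdeal E ^ n := by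
    intro n z hz
    rw [← hmE, ← Ideal.map_pow] at hz
    rw [← Ideal.comap_map_eq_self_of_faithfullyFlat (B := H) (maximalIdeal E ^ n)]
    exact hz
  have hkE : ∀ z : E, ∃ c : k, z - algebraMap k E c ∈ maximalIdeal E := fun z => by
    obtain ⟨c, hc⟩ := hkH (z : H)
    refine ⟨c, ?_⟩
    rw [← pow_one (maximalIdeal E)]
    refine hpow 1 _ ?_
    rw [pow_one]
    exact hc
  let β : Fin N → E := fun i => ⟨b i, hsE (Finset.mem_coe.2 (Finset.mem_image_of_mem b (Finset.mem_univ i)))⟩
  have hβ : maximalIdeal E = Ideal.span (Set.range β) := by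
    have h : (Ideal.span (Set.range β)).map (algebraMap E H) = maximalIdeal H := by
      rw [Ideal.map_span, ← Set.range_comp, hb]
      rfl
    have h1 := Ideal.comap_map_eq_self_of_faithfullyFlat (B := H) (Ideal.span (Set.range β))
    have h2 := Ideal.comap_map_eq_self_of_faithfullyFlat (B := H) (maximalIdeal E)
    rw [h] at h1
    rw [hmE] at h2
    rw [← h1, h2]
  have hcoe : ∀ p : MvPolynomial (Fin N) k, ((MvPolynomial.aeval β p : E) : H) = MvPolynomial.aeval b p :=
    fun p => by
      show (E.val.restrictScalars k) (MvPolynomial.aeval β p) = _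
      rw [← AlgHom.comp_apply, MvPolynomial.comp_aeval]
      rfl
  have hβQ : ∀ p ∈ Ideal.span {VanCyc.quadPoly q - MvPolynomial.C 0}, MvPolynomial.aeval β p = 0 := by
    intro p hp
    obtain ⟨c, rfl⟩ := Ideal.mem_span_singleton'.1 hp
    rw [map_mul, show MvPolynomial.aeval β (VanCyc.quadPoly q - MvPolynomial.C 0) = 0 from
      Subtype.ext (by rw [hcoe, map_zero, sub_zero, hbQ]; rfl), mul_zero]
  let ψ₀ : VanCyc.quadRing k q 0 →ₐ[k] E := Ideal.Quotient.liftₐ _ (MvPolynomial.aeval β) hβQ
  have hψ₀ : ∀ p, ψ₀ (Ideal.Quotient.mk _ p) = MvPolynomial.aeval β p := fun _ => rfl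
  have hβm : ∀ i, β i ∈ maximalIdeal E := fun i => hβ ▸ Ideal.subset_span ⟨i, rfl⟩
  have hunit : ∀ y : P.primeCompl, IsUnit (ψ₀ y) := by
    rintro ⟨y, hy⟩
    obtain ⟨p, rfl⟩ := Ideal.Quotient.mk_surjective y
    show IsUnit (ψ₀ (Ideal.Quotient.mk _ p))
    rw [hψ₀]
    by_contra hu
    have hu' : MvPolynomial.aeval β p ∈ maximalIdeal E := hu
    apply hy
    rw [hPdef]
    refine mem_originQuot q p (by_contra fun h0 => ?_)
    have hc : MvPolynomial.aeval β (p - MvPolynomial.C (MvPolynomial.constantCoeff p)) ∈ maximalIdeal E := by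
      have hle : (MvPolynomial.idealOfVars (Fin N) k).map (MvPolynomial.aeval β) ≤ maximalIdeal E := by
        rw [MvPolynomial.idealOfVars, Ideal.map_span, Ideal.span_le]
        rintro _ ⟨_, ⟨i, rfl⟩, rfl⟩
        rw [MvPolynomial.aeval_X]
        exact hβm i
      refine hle (Ideal.mem_map_of_mem _ ?_)
      rw [← pow_one (MvPolynomial.idealOfVars (Fin N) k), MvPolynomial.mem_pow_idealOfVars_iff']
      intro x hx
      have : x = 0 := (Finsupp.degree_eq_zero_iff x).1 (by omega)
      simp [this, MvPolynomial.constantCoeff_eq]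
    have h1 := sub_mem hu' hc
    rw [map_sub, sub_sub_cancel, MvPolynomial.aeval_C] at h1
    exact h1 ((Ne.isUnit h0).map (algebraMap k E))
  let ψ : C0 →ₐ[k] E := IsLocalization.liftAlgHom hunit
  have hψ : ∀ p, ψ (algebraMap _ C0 (Ideal.Quotient.mk _ p)) = MvPolynomial.aeval β p :=
    fun p => IsLocalization.lift_eq _ _
  have hψle : (maximalIdeal C0).map ψ ≤ maximalIdeal E := by
    rw [← IsLocalization.AtPrime.map_eq_maximalIdeal P C0, Ideal.map_le_iff_le_comap, Ideal.map_le_iff_le_comap]
    refine (le_of_eq hPdef).trans (originQuot_le q fun i => ?_)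
    show ψ (algebraMap _ C0 (Ideal.Quotient.mk _ (MvPolynomial.X i))) ∈ maximalIdeal E
    rw [hψ, MvPolynomial.aeval_X]
    exact hβm i
  haveI hψloc : IsLocalHom ψ.toRingHom := by
    refine ⟨fun c hc => ?_⟩
    by_contra h
    exact hψle (Ideal.mem_map_of_mem _ (show c ∈ maximalIdeal C0 from h)) hc
  have hψn : ∀ (n : ℕ), ∀ c ∈ maximalIdeal C0 ^ n, (ψ c : H) ∈ maximalIdeal H ^ n := by
    intro n c hc
    have h1 := Ideal.mem_map_of_mem ψ hc
    rw [Ideal.map_pow] at h1
    have h2 := Ideal.mem_map_of_mem (algebraMap E H) (Ideal.pow_right_mono hψle n h1)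
    rwa [Ideal.map_pow, hmE] at h2
  have hsur : ∀ (n : ℕ) (z : H), ∃ c : C0, (ψ c : H) - z ∈ maximalIdeal H ^ n := fun n z => by
    obtain ⟨p, hp⟩ := exists_poly_approx hkH b hb n z
    exact ⟨algebraMap _ C0 (Ideal.Quotient.mk _ p), by rwa [hψ, hcoe]⟩
  have hinj : ∀ (n : ℕ) (c : C0), (ψ c : H) ∈ maximalIdeal H ^ n → c ∈ maximalIdeal C0 ^ n := by
    intro n c hc
    exact mem_pow_of_map_mem_pow (C := C0) (Q q) hθC hθO (algebraMap O H) ((algebraMap E H).comp ψ.toRingHom) n
      (Groth.Agent.S0510.result O H n)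
      (by rw [Ideal.map_pow, Groth.Agent.Lib.Henselian.Henselization.map_maximalIdeal O H])
      (hsur n) (hψn n) hc
  have hflat : RingHom.Flat (R := C0) (S := E) ψ.toRingHom := by
    haveI : IsNoetherianRing C0 := IsLocalization.isNoetherianRing P.primeCompl C0 inferInstance
    refine Groth.Agent.Lib.GrpSch.UnitOpen.flat_of_completion (A := C0) (B := E) ψ.toRingHom (fun n x => ?_) (fun n c hc => ?_)
    · obtain ⟨z, rfl⟩ := Ideal.Quotient.mk_surjective x
      obtain ⟨c, hc⟩ := hsur (n + 1) (z : H)
      exact ⟨c, Ideal.Quotient.eq.2 (hpow _ _ hc)⟩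
    · refine hinj (n + 1) c ?_
      have h2 := Ideal.mem_map_of_mem (algebraMap E H) hc
      rwa [Ideal.map_pow, hmE] at h2
  letI : Algebra C0 E := ψ.toRingHom.toAlgebra
  haveI : IsScalarTower k C0 E := IsScalarTower.of_algebraMap_eq fun c => (ψ.commutes c).symm
  haveI : IsLocalHom (algebraMap C0 E) := hψloc
  haveI : Module.Flat C0 E := hflat
  haveI : Algebra.EssFiniteType C0 E := Algebra.EssFiniteType.of_comp k C0 E
  have hbij : Function.Bijective (ResidueField.map (R := C0) (S := E) (algebraMap C0 E)) := by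
    refine ⟨RingHom.injective _, fun x => ?_⟩
    obtain ⟨z, rfl⟩ := residue_surjective x
    obtain ⟨c, hc⟩ := hkE z
    refine ⟨residue C0 (algebraMap k C0 c), ?_⟩
    rw [ResidueField.map_residue, ← IsScalarTower.algebraMap_apply k C0 E]
    exact (Ideal.Quotient.eq.2 hc).symm
  have hbijO : Function.Bijective (ResidueField.map (algebraMap O E)) := by
    refine ⟨RingHom.injective _, fun x => ?_⟩
    obtain ⟨z, rfl⟩ := residue_surjective x
    obtain ⟨c, hc⟩ := hkE z
    refine ⟨residue O (algebraMap k O c), ?_⟩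
    rw [ResidueField.map_residue, ← IsScalarTower.algebraMap_apply k O E]
    exact (Ideal.Quotient.eq.2 hc).symm
  haveI : Algebra.IsSeparable (ResidueField C0) (ResidueField E) := ⟨fun x => by
    obtain ⟨r, rfl⟩ := hbij.2 x
    exact isSeparable_algebraMap r⟩
  haveI : Algebra.FormallyUnramified C0 E := by
    refine Algebra.FormallyUnramified.of_map_maximalIdeal (le_antisymm (map_maximalIdeal_le _) ?_)
    rw [hβ, Ideal.span_le]
    rintro _ ⟨i, rfl⟩
    rw [← MvPolynomial.aeval_X (R := k) β i, ← hψ]
    refine Ideal.mem_map_of_mem _ ?_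
    rw [← IsLocalization.AtPrime.map_eq_maximalIdeal P C0]
    exact Ideal.mem_map_of_mem _ (hPdef.ge (mem_originQuot q _ (MvPolynomial.constantCoeff_X (R := k) (i := i))))
  have hsC : EGA4loc.IsStrictlyEssentiallyEtale C0 E := ⟨Groth.Agent.H24.EssEtale.of_flat, hbij⟩
  haveI : Hensel.IsHenselization E H := Hens.to_strictlyEssEtale (R := O) ⟨hE, hbijO⟩
  letI : Algebra C0 H := ((algebraMap E H).comp (algebraMap C0 E)).toAlgebra
  haveI : IsScalarTower C0 E H := IsScalarTower.of_algebraMap_eq fun _ => rfl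
  haveI : IsLocalHom (algebraMap C0 H) := RingHom.isLocalHom_comp _ _
  haveI : IsScalarTower k C0 H := IsScalarTower.of_algebraMap_eq fun c => by
    show algebraMap k H c = algebraMap E H (ψ (algebraMap k C0 c))
    rw [AlgHom.commutes, ← IsScalarTower.algebraMap_apply k E H]
  haveI : Hensel.IsHenselization C0 H := Hens.of_strictlyEssEtale hsC
  exact ⟨((Groth.Agent.Lib.Henselian.Henselization.equivOfIsHenselization C0 H).symm.trans
    (Groth.Agent.Lib.Henselian.Henselization.equivOfIsHenselization C0 C)).restrictScalars k⟩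

end Groth.Agent.H61.OrdQuad
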