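import Groth.Agent.H24.EssEtale.Basic
import Groth.Agent.Lib.Henselian.Henselization
import Groth.Agent.Lib.Henselian.StrictHenselization
import Mathlib.FieldTheory.IsSepClosed

/-!
# Henselizations along strictly essentially étale maps

* `isStrictHenselization_of_isSepClosed`: with separably closed residue field a henselization is strict.
* `of_strictlyEssEtale`: the henselization of a strictly essentially étale algebra is one of the base.
* `to_strictlyEssEtale`: and conversely.
-/

set_option autoImplicit false

universe u

open IsLocalRing

namespace Groth.Agent.H61.OrdQuad.Hens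

variable (R S : Type u) [CommRing R] [IsLocalRing R] [CommRing S] [IsLocalRing S] [Algebra R S]
  [IsLocalHom (algebraMap R S)]

theorem isStrictHenselization_of_isSepClosed [hS : Hensel.IsHenselization R S]
    [IsSepClosed (ResidueField R)] : Hensel.IsStrictHenselization R S := by
  have hb := Groth.Agent.Lib.Henselian.Henselization.residue_bijective R S
  have hmap : algebraMap (ResidueField R) (ResidueField S) = ResidueField.map (algebraMap R S) :=
    RingHom.ext fun x => by
      obtain ⟨x, rfl⟩ := residue_surjective x
      rfl
  refine { henselian := hS.henselian, isSepClosure := ⟨?_, ⟨fun x => ?_⟩⟩, universal := ?_ }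
  · exact Groth.Agent.Lib.Henselian.StrictHenselization.isSepClosed_of_ringEquiv (RingEquiv.ofBijective _ hb)
  · obtain ⟨r, rfl⟩ := hb.2 x
    rw [← hmap]
    exact isSeparable_algebraMap _
  intro T _ _ f _ τ hτ
  obtain ⟨g, hg, huniq⟩ := hS.universal T f inferInstance
  refine ⟨g, ⟨hg, fun x => ?_⟩, fun g' hg' => huniq g' hg'.1⟩
  obtain ⟨r, hr⟩ := Groth.Agent.Lib.Henselian.Henselization.exists_sub_mem R S x
  have hloc : (maximalIdeal S).map g ≤ maximalIdeal T := by
    rw [← Groth.Agent.Lib.Henselian.Henselization.map_maximalIdeal R S, Ideal.map_map, hg]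
    exact map_maximalIdeal_le f
  have h1 : residue T (g x) = residue T (f r) := by
    rw [← RingHom.congr_fun hg r, RingHom.comp_apply, ← sub_eq_zero, ← map_sub, ← map_sub, residue_eq_zero_iff]
    exact hloc (Ideal.mem_map_of_mem g hr)
  have h2 : residue S x = residue S (algebraMap R S r) := Ideal.Quotient.eq.2 hr
  rw [h1, h2]
  have := RingHom.congr_fun hτ (residue R r)
  rw [RingHom.comp_apply, ResidueField.map_residue, ResidueField.map_residue] at this
  exact this.symm

variable {R S} {E : Type u} [CommRing E] [IsLocalRing E] [Algebra R E] [IsLocalHom (algebraMap R E)]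
  [Algebra E S] [IsLocalHom (algebraMap E S)] [IsScalarTower R E S]

/-- A henselization of `R` is one of every strictly essentially étale stage. -/
theorem to_strictlyEssEtale [hS : Hensel.IsHenselization R S]
    (hE : EGA4loc.IsStrictlyEssentiallyEtale R E) : Hensel.IsHenselization E S where
  henselian := hS.henselian
  universal T _ _ f hf := by
    haveI : IsLocalHom (f.comp (algebraMap R E)) := RingHom.isLocalHom_comp _ _
    obtain ⟨g, hg, huniq⟩ := hS.universal T (f.comp (algebraMap R E)) inferInstance
    have key : ∀ h : S →+* T, h.comp (algebraMap R S) = f.comp (algebraMap R E) →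
        h.comp (algebraMap E S) = f := by
      intro h hh
      letI := (f.comp (algebraMap R E)).toAlgebra
      haveI : IsLocalHom (algebraMap R T) := ‹IsLocalHom (f.comp (algebraMap R E))›
      haveI := Groth.Agent.Lib.Henselian.EssEtale.algHom_subsingleton hE (B := T)
      let a : E →ₐ[R] T := ⟨h.comp (algebraMap E S), fun r => by
        show h (algebraMap E S (algebraMap R E r)) = _
        rw [← IsScalarTower.algebraMap_apply]
        exact RingHom.congr_fun hh r⟩
      let b : E →ₐ[R] T := ⟨f, fun r => rfl⟩
      exact congrArg AlgHom.toRingHom (Subsingleton.elim a b)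
    refine ⟨g, key g hg, fun g' hg' => huniq g' ?_⟩
    show g'.comp (algebraMap R S) = _
    rw [IsScalarTower.algebraMap_eq R E S, ← RingHom.comp_assoc]
    exact congrArg (fun z : E →+* T => z.comp (algebraMap R E)) hg'

/-- A henselization of a strictly essentially étale algebra is one of the base. -/
theorem of_strictlyEssEtale [hS : Hensel.IsHenselization E S]
    (hE : EGA4loc.IsStrictlyEssentiallyEtale R E) : Hensel.IsHenselization R S where
  henselian := hS.henselian
  universal T _ _ f hf := by
    letI := f.toAlgebra
    haveI : IsLocalHom (algebraMap R T) := hf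
    haveI : IsLocalHom f := hf
    let e := RingEquiv.ofBijective _ hE.2
    obtain ⟨g₀, ⟨hloc, hg₀, -⟩, -⟩ := Groth.Agent.Lib.Henselian.EssEtale.existsUnique_lift hE.1 T f
      ((ResidueField.map f).comp e.symm.toRingHom) (RingHom.ext fun x => by
        show ResidueField.map f (e.symm (e x)) = _
        rw [RingEquiv.symm_apply_apply])
    obtain ⟨g, hg, huniq⟩ := hS.universal T g₀ hloc
    refine ⟨g, ?_, fun g' hg' => huniq g' ?_⟩
    · show g.comp (algebraMap R S) = f
      rw [IsScalarTower.algebraMap_eq R E S, ← RingHom.comp_assoc, hg, hg₀]
    · haveI := Groth.Agent.Lib.Henselian.EssEtale.algHom_subsingleton hE (B := T)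
      let a : E →ₐ[R] T := ⟨g'.comp (algebraMap E S), fun r => by
        show g' (algebraMap E S (algebraMap R E r)) = _
        rw [← IsScalarTower.algebraMap_apply]
        exact RingHom.congr_fun hg' r⟩
      let b : E →ₐ[R] T := ⟨g₀, fun r => RingHom.congr_fun hg₀ r⟩
      exact congrArg AlgHom.toRingHom (Subsingleton.elim a b)

end Groth.Agent.H61.OrdQuad.Hens
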